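import Groth.Prelude.Def_AGF

/-!
# Actions of group schemes on points

* `lift_one_act`, `lift_mul_act`, `comp_orbitMap`, `mul_comp_orbitMap`: the action on points;
* `orbit_eq_iff`: two points have the same image under the orbit map of `o` iff they differ by a
  point of the stabilizer;
* `isPullback_of_eq_iff`, `isPullback_of_stab`: the cartesian square of `AGF.IsQuotient`.
-/

set_option autoImplicit false
universe u
open CategoryTheory MonoidalCategory CartesianMonoidalCategory MonObj GrpObj AlgebraicGeometry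

namespace K492.Act

variable {S : Scheme.{u}} {G H X : Over S} [GrpObj G]

theorem lift_one_act (a : AlgGrp.Action G X) {T : Over S} (x : T ⟶ X) :
    lift (1 : T ⟶ G) x ≫ a.act = x := by
  have h : lift (1 : T ⟶ G) x = lift (toUnit T) x ≫ (η[G] ▷ X) := by
    rw [lift_whiskerRight]
    rfl
  rw [h, Category.assoc, a.one_act, lift_leftUnitor_hom]

theorem lift_mul_act (a : AlgGrp.Action G X) {T : Over S} (g h : T ⟶ G) (x : T ⟶ X) :
    lift (g * h) x ≫ a.act = lift g (lift h x ≫ a.act) ≫ a.act := by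
  have h1 : lift (g * h) x = lift (lift g h) x ≫ (μ[G] ▷ X) := by
    rw [lift_whiskerRight]
    rfl
  rw [h1, Category.assoc, a.mul_act, lift_lift_associator_hom_assoc, lift_whiskerLeft_assoc]

/-- The orbit map on points. -/
theorem comp_orbitMap (a : AlgGrp.Action G X) (o : 𝟙_ (Over S) ⟶ X) {T : Over S} (g : T ⟶ G) :
    g ≫ a.orbitMap o = lift g (toUnit T ≫ o) ≫ a.act := by
  rw [AlgGrp.Action.orbitMap, comp_lift_assoc, Category.comp_id, ← Category.assoc, comp_toUnit]

theorem mul_comp_orbitMap (a : AlgGrp.Action G X) (o : 𝟙_ (Over S) ⟶ X) {T : Over S}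
    (g h : T ⟶ G) : (g * h) ≫ a.orbitMap o = lift g (h ≫ a.orbitMap o) ≫ a.act := by
  rw [comp_orbitMap, comp_orbitMap, lift_mul_act]

theorem one_comp_orbitMap (a : AlgGrp.Action G X) (o : 𝟙_ (Over S) ⟶ X) {T : Over S} :
    (1 : T ⟶ G) ≫ a.orbitMap o = toUnit T ≫ o := by
  rw [comp_orbitMap, lift_one_act]

/-- Two points of `G` have the same image in the orbit iff they differ by a stabilizing point. -/
theorem orbit_eq_iff (a : AlgGrp.Action G X) (o : 𝟙_ (Over S) ⟶ X) {T : Over S} (g g' : T ⟶ G) :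
    g ≫ a.orbitMap o = g' ≫ a.orbitMap o ↔ (g⁻¹ * g') ≫ a.orbitMap o = toUnit T ≫ o := by
  constructor
  · intro h
    rw [mul_comp_orbitMap, ← h, ← mul_comp_orbitMap, inv_mul_cancel, one_comp_orbitMap]
  · intro h
    have h1 : g' = g * (g⁻¹ * g') := by group
    rw [h1, mul_comp_orbitMap, h, ← comp_orbitMap]

theorem mul_point (i : H ⟶ G) {T : Over S} (z : T ⟶ G ⊗ H) :
    z ≫ (G ◁ i) ≫ μ[G] = (z ≫ fst G H) * (z ≫ snd G H ≫ i) := by
  have hz : z = lift (z ≫ fst _ _) (z ≫ snd _ _) := by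
    apply CartesianMonoidalCategory.hom_ext <;> simp
  conv_lhs => rw [hz]
  rw [lift_whiskerLeft_assoc, Category.assoc]
  rfl

/-- The cartesian square in the definition of a quotient, from its meaning on points. -/
theorem isPullback_of_eq_iff (i : H ⟶ G) [Mono i] (p : G ⟶ X)
    (h : ∀ {T : Over S} (g g' : T ⟶ G), g ≫ p = g' ≫ p ↔ ∃ n : T ⟶ H, g' = g * (n ≫ i)) :
    IsPullback (fst G H) ((G ◁ i) ≫ μ[G]) p p := by
  refine ⟨⟨?_⟩, ⟨Limits.PullbackCone.IsLimit.mk _
    (fun c => lift c.fst ((h c.fst c.snd).1 c.condition).choose) ?_ ?_ ?_⟩⟩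
  · rw [h]
    refine ⟨snd G H, ?_⟩
    have := mul_point i (𝟙 (G ⊗ H))
    simpa only [Category.id_comp] using this
  · intro c
    exact lift_fst _ _
  · intro c
    rw [mul_point, lift_fst, lift_snd_assoc]
    exact ((h c.fst c.snd).1 c.condition).choose_spec.symm
  · intro c m h1 h2
    apply CartesianMonoidalCategory.hom_ext
    · rw [lift_fst, h1]
    · rw [lift_snd, ← cancel_mono i]
      rw [mul_point, h1] at h2
      have h3 := h2.trans ((h c.fst c.snd).1 c.condition).choose_spec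
      rw [Category.assoc]
      exact mul_left_cancel h3

/-- The points form of the cartesian square against the stabilizer. -/
theorem stab_eq_iff {a : AlgGrp.Action G X} {o : 𝟙_ (Over S) ⟶ X} {i : H ⟶ G}
    (hH : IsPullback i (toUnit H) (a.orbitMap o) o) {T : Over S} (g g' : T ⟶ G) :
    g ≫ a.orbitMap o = g' ≫ a.orbitMap o ↔ ∃ n : T ⟶ H, g' = g * (n ≫ i) := by
  rw [orbit_eq_iff]
  constructor
  · intro h
    refine ⟨hH.lift (g⁻¹ * g') (toUnit T) h, ?_⟩
    rw [hH.lift_fst]
    group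
  · rintro ⟨n, rfl⟩
    rw [inv_mul_cancel_left, Category.assoc, hH.w, ← Category.assoc, comp_toUnit]

theorem mono_of_stab {a : AlgGrp.Action G X} {o : 𝟙_ (Over S) ⟶ X} {i : H ⟶ G}
    (hH : IsPullback i (toUnit H) (a.orbitMap o) o) : Mono i := by
  constructor
  intro T f g hfg
  exact hH.hom_ext hfg (toUnit_unique _ _)

theorem isPullback_of_stab {a : AlgGrp.Action G X} {o : 𝟙_ (Over S) ⟶ X} {i : H ⟶ G}
    (hH : IsPullback i (toUnit H) (a.orbitMap o) o) :
    IsPullback (fst G H) ((G ◁ i) ≫ μ[G]) (a.orbitMap o) (a.orbitMap o) := by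
  have := mono_of_stab hH
  exact isPullback_of_eq_iff i _ (fun g g' => stab_eq_iff hH g g')

end K492.Act
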