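import Groth.Agent.Agf.H582.ConjDict
import Groth.Agent.Sga3B.ParBc

/-!
# Affine groups over an algebraically closed field: basic dictionary

* `isMonHom_of_comp_mono`: a morphism whose composite with a monomorphic homomorphism is a
  homomorphism is a homomorphism;
* `exists_isBorelOver`: Borel subgroups exist;
* `isBorelOver_conjBy`: conjugates of Borel subgroups are Borel subgroups;
* `isMaxTorus_lift`, `isMaxTorus_conjBy`: maximal tori of `G` contained in a subgroup are maximal
  tori of it, conjugates of maximal tori are maximal tori.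
-/

set_option autoImplicit false
universe u
open CategoryTheory MonoidalCategory CartesianMonoidalCategory MonObj GrpObj AlgebraicGeometry

namespace K492.Basic

section General

variable {S : Scheme.{u}} {T H G : Over S} [GrpObj T] [GrpObj H] [GrpObj G]

theorem isMonHom_of_comp_mono (f : T ⟶ H) (p : H ⟶ G) [IsMonHom p] [Mono p]
    (h : IsMonHom (f ≫ p)) : IsMonHom f := by
  apply Groth.Agent.Sga3B.Pts.isMonHom_of_points
  intro X x y
  rw [← cancel_mono p, MonObj.mul_comp (g := p), Category.assoc, MonObj.mul_comp (g := f ≫ p),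
    Category.assoc, Category.assoc]

/-- A maximal torus of `G` contained in the subgroup `H` is a maximal torus of `H`. -/
theorem isMaxTorus_lift {i : T ⟶ G} (hi : AGF.IsMaxTorus i) (p : H ⟶ G) [IsMonHom p] [Mono p]
    (f : T ⟶ H) (hf : f ≫ p = i) : AGF.IsMaxTorus f := by
  obtain ⟨h1, h2, h3, h4⟩ := hi
  have hf1 : IsMonHom (f ≫ p) := by rw [hf]; exact h1
  have hf2 : Mono (f ≫ p) := by rw [hf]; exact h2
  refine ⟨isMonHom_of_comp_mono f p hf1, mono_of_mono f p, h3, ?_⟩
  intro T' _ j _ _ g hT' hg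
  have : Mono (j ≫ p) := mono_comp _ _
  exact h4 T' (j ≫ p) g hT' (by rw [← Category.assoc, hg, hf])

/-- Conjugates of maximal tori are maximal tori. -/
theorem isMaxTorus_conjBy {i : T ⟶ G} (hi : AGF.IsMaxTorus i) (g : 𝟙_ (Over S) ⟶ G) :
    AGF.IsMaxTorus (AGF.conjBy g i) := by
  obtain ⟨h1, h2, h3, h4⟩ := hi
  refine ⟨inferInstance, Groth.Agent.Agf.H582.ConjDict.mono_conjBy g i, h3, ?_⟩
  intro T' _ j _ _ f hT' hf
  have hm : Mono (AGF.conjBy g⁻¹ j) := Groth.Agent.Agf.H582.ConjDict.mono_conjBy g⁻¹ j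
  refine h4 T' (AGF.conjBy g⁻¹ j) f hT' ?_
  rw [Groth.Agent.Agf.H582.ConjDict.comp_conjBy]
  change AGF.conjBy g⁻¹ (f ≫ j) = i
  rw [hf, Groth.Agent.Agf.H582.ConjDict.conjBy_conjBy, inv_mul_cancel,
    Groth.Agent.Agf.H582.ConjDict.conjBy_one]

end General

variable {K : Type u} [Field K]

theorem isBorelOver_conjBy {B G : Over (Spec (CommRingCat.of K))} [GrpObj B] [GrpObj G]
    {b : B ⟶ G} (h : Red.IsBorelOver K b) (g : 𝟙_ (Over (Spec (CommRingCat.of K))) ⟶ G) :
    Red.IsBorelOver K (AGF.conjBy g b) := by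
  rw [Groth.Agent.Agf.H582.ConjDict.conjBy_eq]
  exact Groth.Agent.Agf.H582.ConjDict.isBorelOver_comp_iso b _ h

variable [IsAlgClosed K]

/-- Borel subgroups exist. -/
theorem exists_isBorelOver (G : Over (Spec (CommRingCat.of K))) [GrpObj G] [IsAffine G.left]
    [Smooth G.hom] [ConnectedSpace G.left] :
    ∃ (B : Over (Spec (CommRingCat.of K))) (_ : GrpObj B) (b : B ⟶ G), Red.IsBorelOver K b := by
  obtain ⟨A, _, _, e, he, hft, hdom⟩ :=
    Groth.Agent.Agf.H582.ConjDict.exists_hopf_of_connected (K := K) G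
  obtain ⟨B₀, hB₀⟩ := Groth.Agent.Sga3B.Parab.BorelPts172.exists_isBorelPt (K := K) (A := A)
  obtain ⟨B, _, b, hb, hB, -⟩ := hB₀.exists_scheme
  have hinv : IsMonHom e.symm.hom := inferInstanceAs (IsMonHom e.inv)
  exact ⟨B, inferInstance, b ≫ e.symm.hom,
    Groth.Agent.Agf.H582.ConjDict.isBorelOver_comp_iso b e.symm hB⟩

omit [IsAlgClosed K] in
/-- A closed subgroup scheme of an affine scheme is affine. -/
theorem isAffine_of_isClosedImmersion {B G : Over (Spec (CommRingCat.of K))} [IsAffine G.left]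
    (b : B ⟶ G) [IsClosedImmersion b.left] : IsAffine B.left :=
  isAffine_of_isAffineHom b.left

end K492.Basic
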