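import Groth.Agent.Agf.H593.FrobDesc
import Groth.Agent.Agf.H604.SemiPts
import Groth.Agent.Sga3B.RG.CentMax

/-!
# Commutative and solvable closed subgroups, on points

`K` algebraically closed, `A` a finitely generated commutative Hopf algebra over `K`.

* `exists_unipPart`: the unipotent points of a closed connected commutative subgroup form a closed
  connected subgroup;
* `isTorusSub_of_comm_normal`: in a reductive group, closed connected commutative normal subgroups
  are tori;
* `dser H n`: the closed derived series; `exists_last`: its last nontrivial term is commutative.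
-/

set_option autoImplicit false

universe u

open WithConv TensorProduct Coalgebra
open Groth.Agent.Sga3B.RG Groth.Agent.Books Groth.Agent.Agf
open Groth.Agent.Sga3B.Parab.BorelPts172 Groth.Agent.Sga3B.Parab.SolvPts172

namespace K492.PtComm

variable {K : Type u} [Field K] [IsAlgClosed K] {A : Type u} [CommRing A] [HopfAlgebra K A]
  [Algebra.FiniteType K A]

/-- The unipotent points of a closed connected commutative subgroup form a closed connected
subgroup. -/
theorem exists_unipPart {H : Subgroup (Pt K A)} (hcl : IsCl (H : Set (Pt K A)))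
    (hconn : IsConn (H : Set (Pt K A))) (hcomm : ∀ x ∈ H, ∀ y ∈ H, x * y = y * x) :
    ∃ U : Subgroup (Pt K A), IsCl (U : Set (Pt K A)) ∧ IsConn (U : Set (Pt K A)) ∧
      ∀ x, x ∈ U ↔ x ∈ H ∧ IsUnip x := by
  have hprime : (vanIdeal (H : Set (Pt K A))).IsPrime := hconn
  have hrange := range_quotMap_vanIdeal (K := K) H hcl
  let q := quotMap (K := K) (vanIdeal (H : Set (Pt K A)))
  have hmem : ∀ y, q y ∈ H := fun y => hrange.le ⟨y, rfl⟩
  have hsurj : Function.Surjective (Bialgebra.Quotient.mkBialgHom (R := K)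
    (vanIdeal (H : Set (Pt K A)))) := Ideal.Quotient.mk_surjective
  have hinj : Function.Injective q := Pt.map_injective hsurj
  obtain ⟨T, hT⟩ := exists_isMaxTorusSub (K := K) (A := A ⧸ vanIdeal (H : Set (Pt K A)))
  obtain ⟨U, -, hUcl, hUconn, hUu, hUall, -⟩ := K8.exists_centralizer_split' hT
  refine ⟨U.map q, hUcl.image_map hsurj, hUconn.image_map _, fun x => ⟨?_, ?_⟩⟩
  · rintro ⟨u, hu, rfl⟩
    exact ⟨hmem u, BrRed.isUnip_map _ (hUu u hu)⟩
  · rintro ⟨hx, hxu⟩
    obtain ⟨y, rfl⟩ := hrange.ge hx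
    refine ⟨y, hUall y ?_ (BrRed.isUnip_of_map hsurj hxu), rfl⟩
    rw [Subgroup.mem_centralizer_iff]
    intro t _
    apply hinj
    rw [map_mul, map_mul]
    exact hcomm _ (hmem _) _ (hmem _)

/-- In a reductive group, a closed connected commutative normal subgroup is a torus. -/
theorem isTorusSub_of_comm_normal [_root_.IsReduced A] (hred : IsRedPt K A) {H : Subgroup (Pt K A)} (hn : H.Normal)
    (hcl : IsCl (H : Set (Pt K A))) (hconn : IsConn (H : Set (Pt K A)))
    (hcomm : ∀ x ∈ H, ∀ y ∈ H, x * y = y * x) : IsTorusSub H := by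
  obtain ⟨U, hUcl, hUconn, hU⟩ := exists_unipPart hcl hconn hcomm
  have hUn : U.Normal := by
    refine ⟨fun x hx g => ?_⟩
    rw [hU] at hx ⊢
    exact ⟨hn.conj_mem _ hx.1 g, hx.2.conj g⟩
  have hbot : U = ⊥ := hred U hUn hUcl hUconn fun g hg => ((hU g).1 hg).2
  refine H593.FrobDesc.isTorusSub_of_comm hcl hconn hcomm fun x hx hu => ?_
  have h1 : x ∈ U := (hU x).2 ⟨hx, hu⟩
  rwa [hbot, Subgroup.mem_bot] at h1

/-! ### The last nontrivial term of the derived series -/

section Grp

variable {Γ : Type*} [Group Γ]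

lemma ds_le (H : Subgroup Γ) (n : ℕ) : ds H n ≤ H := by
  induction n with
  | zero => exact le_rfl
  | succ n ih => exact (Subgroup.commutator_le_self _).trans ih

lemma ds_mono {H H' : Subgroup Γ} (h : H ≤ H') (n : ℕ) : ds H n ≤ ds H' n := by
  induction n with
  | zero => exact h
  | succ n ih => exact Subgroup.commutator_mono ih ih

lemma ds_normal {H : Subgroup Γ} (h : H.Normal) (n : ℕ) : (ds H n).Normal := by
  induction n with
  | zero => exact h
  | succ n ih =>
    change (⁅ds H n, ds H n⁆ : Subgroup Γ).Normal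
    infer_instance

lemma map_ds {Γ' : Type*} [Group Γ'] (f : Γ →* Γ') (H : Subgroup Γ) (n : ℕ) :
    (ds H n).map f = ds (H.map f) n := by
  induction n with
  | zero => rfl
  | succ n ih =>
    change (⁅ds H n, ds H n⁆ : Subgroup Γ).map f = ⁅ds (H.map f) n, ds (H.map f) n⁆
    rw [Subgroup.map_commutator, ih]

end Grp

omit [IsAlgClosed K] [Algebra.FiniteType K A] in
lemma isConn_ds {H : Subgroup (Pt K A)} (hH : IsConn (H : Set (Pt K A))) (n : ℕ) :
    IsConn (ds H n : Set (Pt K A)) := by
  induction n with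
  | zero => exact hH
  | succ n ih => exact isConn_commutator ih

omit [IsAlgClosed K] [Algebra.FiniteType K A] in
/-- The closure of the last nontrivial term of the derived series. -/
theorem exists_last {H : Subgroup (Pt K A)} (hH : IsCCS H) (hne : H ≠ ⊥) :
    ∃ n : ℕ, clSub (ds H n) ≠ ⊥ ∧ clSub (ds H n) ≤ H ∧
      IsCl (clSub (ds H n) : Set (Pt K A)) ∧ IsConn (clSub (ds H n) : Set (Pt K A)) ∧
      ∀ x ∈ clSub (ds H n), ∀ y ∈ clSub (ds H n), x * y = y * x := by
  classical
  have hex : ∃ n, ds H n = ⊥ := (isSolvable_iff_ds H).1 hH.isSolvable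
  obtain ⟨n, hn⟩ : ∃ n, Nat.find hex = n + 1 := by
    refine Nat.exists_eq_succ_of_ne_zero fun h0 => hne ?_
    have := Nat.find_spec hex
    rw [h0] at this
    exact this
  have h1 : ds H (n + 1) = ⊥ := hn ▸ Nat.find_spec hex
  have h2 : ds H n ≠ ⊥ := Nat.find_min hex (by omega)
  refine ⟨n, ?_, clSub_le (ds_le H n) hH.isCl, isCl_clSub _, isConn_clSub (isConn_ds hH.isConn n),
    ?_⟩
  · intro h
    exact h2 (le_bot_iff.1 ((le_clSub _).trans h.le))
  · intro x hx y hy
    have h3 : ⁅clSub (ds H n), clSub (ds H n)⁆ ≤ (⊥ : Subgroup (Pt K A)) := by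
      refine (commutator_clSub_le _ _).trans ?_
      change clSub (ds H (n + 1)) ≤ ⊥
      rw [h1, clSub_bot]
    have h4 := h3 (Subgroup.commutator_mem_commutator hx hy)
    rw [Subgroup.mem_bot, commutatorElement_eq_one_iff_mul_comm] at h4
    exact h4

omit [IsAlgClosed K] [Algebra.FiniteType K A] in
/-- Closures of derived subgroups of a subgroup stable under an automorphism are stable. -/
theorem map_clSub_ds_le (τ : Pt K A ≃* Pt K A)
    (hτ : ∀ S : Set (Pt K A), IsCl S → IsCl (τ ⁻¹' S)) {H : Subgroup (Pt K A)}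
    (hH : ∀ g ∈ H, τ g ∈ H) (n : ℕ) : ∀ g ∈ clSub (ds H n), τ g ∈ clSub (ds H n) := by
  have h1 : ds H n ≤ (clSub (ds H n)).comap τ.toMonoidHom := by
    rw [← Subgroup.map_le_iff_le_comap, map_ds]
    refine (ds_mono ?_ n).trans (le_clSub _)
    rintro _ ⟨x, hx, rfl⟩
    exact hH x hx
  have h2 : clSub (ds H n) ≤ (clSub (ds H n)).comap τ.toMonoidHom :=
    clSub_le h1 (hτ _ (isCl_clSub _))
  exact fun g hg => h2 hg

end K492.PtComm
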