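import Groth.Agent.AGF.K492.PtComm
import Groth.Agent.AGF.K492.Basic
import Groth.Agent.Agf.H614.AlgDict
import Groth.Agent.Agf.H614.FieldGlue
import Groth.Agent.Sga3B.NormBc
import Groth.Agent.Sga3B.AlgBc2
import Groth.Agent.Sga3B.RedIso
import Groth.Agent.Sga3B.RG.BrRed2

/-!
# Tori, triviality, reductivity: dictionary and descent from the geometric fibre of a field
-/

set_option autoImplicit false
universe u
open CategoryTheory MonoidalCategory CartesianMonoidalCategory MonObj GrpObj AlgebraicGeometry Limits
open Groth.Agent.Books.AffBridge Groth.Agent.Books.AffBridge2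

namespace K492.RedDict

open Groth.Agent Groth.Agent.Sga3B Groth.Agent.Sga3B.RG Groth.Agent.Sga3B.RG.BrPts
open Groth.Agent.Sga3B.RG.BrTorus
open Groth.Agent.Books.AlgPtsGrp Groth.Agent.Books.AlgPtsIrred Groth.Agent.Books.AlgPtsSmooth
open Groth.Agent.Agf.H614.AlgDict Groth.Agent.Agf.H614

section ac

variable {K : Type u} [Field K] [IsAlgClosed K] {A : Type u} [CommRing A] [HopfAlgebra K A]
variable {G H : Over (Spec (CommRingCat.of K))} [GrpObj G] [GrpObj H]

/-- A smooth closed subgroup whose points form a torus is a torus. -/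
theorem isTorus_of_isTorusSub [Algebra.FiniteType K A] (i : H ⟶ SpecOver K A) [IsMonHom i]
    [IsClosedImmersion i.left] [Smooth H.hom] (h : IsTorusSub (ptsSub i)) : Red.IsTorus H := by
  obtain ⟨T', _, j, _, hT', hcl, hj⟩ := exists_of_isTorusSub h
  have hsm := TorusAlgClosed.smooth_of_isTorus hT'
  have hm : Mono i := mono_of_isClosedImmersion i
  have hm' : Mono j := mono_of_isClosedImmersion j
  obtain ⟨f, hf⟩ := exists_factor_of_le i j hj.ge
  obtain ⟨g, hg⟩ := exists_factor_of_le j i hj.le
  have hfg : f ≫ g = 𝟙 _ := by rw [← cancel_mono i, Category.assoc, hg, hf, Category.id_comp]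
  have hgf : g ≫ f = 𝟙 _ := by rw [← cancel_mono j, Category.assoc, hf, hg, Category.id_comp]
  have hgm : IsMonHom g := K492.Basic.isMonHom_of_comp_mono g i (by rw [hg]; infer_instance)
  let e : T' ≅ H := ⟨g, f, hgf, hfg⟩
  have : IsMonHom e.hom := hgm
  exact TorusBc.isTorus_of_iso (Grp.mkIso' e) hT'

/-- A smooth closed subgroup whose points form a torus is a torus. -/
theorem isTorus_of_isTorusSub' [Algebra.FiniteType K A] (e : G ≅ SpecOver K A) [IsMonHom e.hom]
    (i : H ⟶ G) [IsMonHom i] [IsClosedImmersion i.left] [Smooth H.hom]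
    (h : IsTorusSub (ptsSub (i ≫ e.hom))) : Red.IsTorus H :=
  isTorus_of_isTorusSub (i ≫ e.hom) h

/-- Reductivity in terms of points. -/
theorem isReductiveOver_iff' [Algebra.FiniteType K A] (e : G ≅ SpecOver K A) [IsMonHom e.hom] :
    Red.IsReductiveOver K G ↔ IsDomain A ∧ IsRedPt K A := by
  rw [← BrRed2.isReductiveOver_iff]
  have hinv : IsMonHom e.symm.hom := inferInstanceAs (IsMonHom e.inv)
  exact ⟨fun h => BrRed2.isReductiveOver_of_iso e h,
    fun h => BrRed2.isReductiveOver_of_iso e.symm h⟩

/-- Semisimplicity in terms of points. -/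
theorem isSemisimpleOver_iff' [Algebra.FiniteType K A] (e : G ≅ SpecOver K A) [IsMonHom e.hom] :
    Red.IsSemisimpleOver K G ↔ IsDomain A ∧ IsRedPt K A ∧
      ∀ T : Subgroup (Pt K A), T.Normal → IsTorusSub T → T = ⊥ := by
  rw [← BrRed2.isSemisimpleOver_iff]
  have hinv : IsMonHom e.symm.hom := inferInstanceAs (IsMonHom e.inv)
  exact ⟨fun h => BrRed2.isSemisimpleOver_of_iso e h,
    fun h => BrRed2.isSemisimpleOver_of_iso e.symm h⟩

omit [IsAlgClosed K] in
/-- Points of a commutative subgroup commute. -/
lemma comm_ptsSub [IsCommMonObj H] (i : H ⟶ SpecOver K A) [IsMonHom i] :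
    ∀ x ∈ ptsSub i, ∀ y ∈ ptsSub i, x * y = y * x := by
  rintro x ⟨n, hn⟩ y ⟨m, hm⟩
  apply (ptEquiv K A).injective
  rw [map_mul, map_mul, ← hn, ← hm, ← MonObj.mul_comp, ← MonObj.mul_comp, mul_comm n m]

end ac

section field

variable {k : Type u} [Field k] (s : Spec (CommRingCat.of k))

/-- A group over a field with trivial geometric fibre is trivial. -/
theorem isTrivialGrp_of_geomFibre {X : Over (Spec (CommRingCat.of k))}
    (h : Red.IsTrivialGrp (Red.geomFibre s X)) : Red.IsTrivialGrp X := by
  have h1 : Surjective (Red.geomPt s) := FieldGlue.surjective_geomPt s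
  have h2 : Flat (Red.geomPt s) := FieldGlue.flat_geomPt s
  have h3 : QuasiCompact (Red.geomPt s) := inferInstance
  exact MorphismProperty.of_pullback_snd_of_descendsAlong
    (P := MorphismProperty.isomorphisms Scheme.{u}) (Q := @Surjective ⊓ @Flat ⊓ @QuasiCompact)
    (f := X.hom) (g := Red.geomPt s) ⟨⟨h1, h2⟩, h3⟩ h

/-- A group over a field whose geometric fibre is a torus is a torus. -/
theorem isTorus_of_geomFibre {T : Over (Spec (CommRingCat.of k))} [GrpObj T]
    (h : Red.IsTorus (Red.geomFibre s T)) : Red.IsTorus T := by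
  have h1 : Surjective (Red.geomPt s) := FieldGlue.surjective_geomPt s
  have h2 : Flat (Red.geomPt s) := FieldGlue.flat_geomPt s
  refine AlgBc.isTorus_of_bc (Red.geomPt s) (fun V hV => ?_) h
  refine ⟨Red.geomPt s ⁻¹ᵁ V, QuasiCompact.isCompact_preimage _ V.2 hV.isCompact, ?_⟩
  exact Set.image_preimage_eq _ (Red.geomPt s).surjective

/-- Being trivial passes to geometric fibres. -/
theorem isTrivialGrp_geomFibre {X : Over (Spec (CommRingCat.of k))} (h : Red.IsTrivialGrp X) :
    Red.IsTrivialGrp (Red.geomFibre s X) := RedIso.isTrivialGrp_bc _ h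

/-- Being a torus passes to geometric fibres. -/
theorem isTorus_geomFibre {T : Over (Spec (CommRingCat.of k))} [GrpObj T]
    (h : Red.IsTorus T) : Red.IsTorus (Red.geomFibre s T) := TorusBc.isTorus_bc _ h

end field

section general

variable {S S' : Scheme.{u}} (f : S' ⟶ S)

/-- The base change of a morphism over `S` is a pullback. -/
lemma isPullback_map_left {X Y : Over S} (i : X ⟶ Y) :
    IsPullback (pullback.fst X.hom f) ((Over.pullback f).map i).left i.left
      (pullback.fst Y.hom f) := by
  have hw : i.left ≫ Y.hom = X.hom := Over.w i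
  have h2 : IsPullback (pullback.fst X.hom f) (pullback.snd X.hom f) (i.left ≫ Y.hom) f := by
    rw [hw]
    exact IsPullback.of_hasPullback X.hom f
  have h1 : pullback.fst X.hom f ≫ i.left =
      ((Over.pullback f).map i).left ≫ pullback.fst Y.hom f :=
    (pullback.lift_fst _ _ _).symm
  have h3 : ((Over.pullback f).map i).left ≫ pullback.snd Y.hom f = pullback.snd X.hom f :=
    pullback.lift_snd _ _ _
  refine IsPullback.of_bot (h₂₁ := pullback.fst Y.hom f) (v₂₁ := pullback.snd Y.hom f)
    (v₂₂ := Y.hom) (h₃₁ := f) ?_ h1 (IsPullback.of_hasPullback Y.hom f)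
  rw [h3]
  exact h2

/-- Base changes of morphisms over `S` with a property stable under base change. -/
theorem of_map_left (P : MorphismProperty Scheme.{u}) [P.IsStableUnderBaseChange] {X Y : Over S}
    (i : X ⟶ Y) (h : P i.left) : P ((Over.pullback f).map i).left :=
  MorphismProperty.of_isPullback (P := P) (isPullback_map_left f i) h

instance isClosedImmersion_bc {X Y : Over S} (i : X ⟶ Y) [IsClosedImmersion i.left] :
    IsClosedImmersion ((Over.pullback f).map i).left :=
  of_map_left f @IsClosedImmersion i inferInstance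

instance isCommMonObj_bc {X : Over S} [GrpObj X] [IsCommMonObj X] :
    IsCommMonObj (Red.bc f X) := inferInstance

end general

end K492.RedDict
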